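import Cfsg.Agent.H668.XZ.C3
import Cfsg.Agent.H508.XR.Defs2

/-!
# S4791 + S4927: the arithmetic and the numerical criteria (helper364)

* `ar1`, `ar3`, `ar4`, `ar6`, `ar7` : the B layer, `GoodN`.
* `data` : `f R + κ ≤ x0(A) + R`, `x0(S) ≤ f (κ - R) + R` for `R` extendible members of `X0`.
* `row0_of_good`, `row0_of_num` : the general criteria in terms of `x0(S)` and `ExtY R`.
* `row_of_ab`, `row_of_ext`, `row_of_ext2`, `row_of_ext2_small`, `row_of_ext3`, `row_of_ext3_small`, `row_of_ext4_small`,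
  `row_of_ext2_43` : C7, C8, C11 - C16, with conclusion `Row0`.
-/

set_option autoImplicit false
set_option linter.unusedSectionVars false

open Cfsg Subgroup Cfsg.Agent.H508.KB Cfsg.Agent.H674.XZ Cfsg.Agent.H668.XZ
open Cfsg.Agent.H508.XR (ExtY ExtX)
open scoped ComplexConjugate

namespace Cfsg.Agent.H364.XR

universe u

section arith

open Cfsg.Agent.H508.XR (GoodN)

theorem four_mul_le_sq_add (a b : ℕ) : 4 * (a * b) ≤ (a + b) ^ 2 := by
  zify
  nlinarith [sq_nonneg ((a : ℤ) - b)]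

theorem choose_symm' (k t : ℕ) : (k + t).choose t = (k + t).choose k := by
  rw [Nat.choose_symm_add]

theorem choose_ge_succ {m : ℕ} (hm : 1 ≤ m) (k : ℕ) : k + 1 ≤ (m + k).choose m := by
  induction k with
  | zero => simp
  | succ k ih =>
    obtain ⟨m, rfl⟩ : ∃ j, m = j + 1 := ⟨m - 1, by omega⟩
    have h1 : (m + 1 + (k + 1)).choose (m + 1) = (m + 1 + k).choose m + (m + 1 + k).choose (m + 1) := by
      rw [show m + 1 + (k + 1) = (m + 1 + k) + 1 by ring, Nat.choose_succ_succ]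
    have h2 : 1 ≤ (m + 1 + k).choose m := Nat.choose_pos (by omega)
    omega

theorem choose_ge_mul (k t : ℕ) : 1 + t * k ≤ (k + t).choose t := by
  induction t with
  | zero => simp
  | succ t ih =>
    rcases Nat.eq_zero_or_pos k with rfl | hk
    · simp
    obtain ⟨k, rfl⟩ : ∃ j, k = j + 1 := ⟨k - 1, by omega⟩
    have h1 : (k + 1 + (t + 1)).choose (t + 1) = (k + 1 + t).choose t + (k + 1 + t).choose (t + 1) := by
      rw [show k + 1 + (t + 1) = (k + 1 + t) + 1 by ring, Nat.choose_succ_succ]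
    have h2 := choose_ge_succ (m := t + 1) (by omega) k
    rw [show t + 1 + k = k + 1 + t by ring] at h2
    rw [h1, add_mul, one_mul]
    omega

/-- `κ ≥ 1`, as in `GoodN` -/
theorem one_add_le {κ t : ℕ} (hκ : 1 ≤ κ) : 1 + t * (κ - 1) ≤ (κ + t - 1).choose t := by
  obtain ⟨k, rfl⟩ : ∃ j, κ = j + 1 := ⟨κ - 1, by omega⟩
  rw [show k + 1 + t - 1 = k + t by omega, show k + 1 - 1 = k by omega]
  exact choose_ge_mul k t

theorem choose_mono' {κ s t : ℕ} (hκ : 1 ≤ κ) (hst : s ≤ t) : (κ + s - 1).choose s ≤ (κ + t - 1).choose t := by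
  obtain ⟨k, rfl⟩ : ∃ j, κ = j + 1 := ⟨κ - 1, by omega⟩
  rw [show k + 1 + s - 1 = k + s by omega, show k + 1 + t - 1 = k + t by omega, choose_symm', choose_symm']
  exact Nat.choose_le_choose k (by omega)

theorem two_mul_choose_two (κ : ℕ) (hκ : 1 ≤ κ) : 2 * (κ + 2 - 1).choose 2 = κ * (κ + 1) := by
  obtain ⟨k, rfl⟩ : ∃ j, κ = j + 1 := ⟨κ - 1, by omega⟩
  rw [show k + 1 + 2 - 1 = (k + 1) + 1 by omega, Nat.choose_two_right, Nat.add_sub_cancel,
    Nat.mul_div_cancel' (by have := Nat.even_mul_succ_self (k + 1); rw [mul_comm] at this; exact this.two_dvd)]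
  ring

/-- B1 (strict ar1) -/
theorem ar1 {p K f κ : ℕ} (hp : 1 ≤ p) (h : p ≤ f * (κ - 1)) (hK : f + κ ≤ K + 1) (hκ : 1 ≤ κ) : GoodN 1 p K f κ := by
  intro t g n _ ht1 hfg hn
  have h1 := one_add_le (t := t) hκ
  set C := (κ + t - 1).choose t with hC
  have h2 : C - 1 + g ≤ n := by omega
  have h3 : t * (κ - 1) ≤ C - 1 := by omega
  have h4 : 4 * ((C - 1) * g) ≤ n ^ 2 := by
    calc 4 * ((C - 1) * g) ≤ (C - 1 + g) ^ 2 := four_mul_le_sq_add _ _
      _ ≤ n ^ 2 := Nat.pow_le_pow_left h2 2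
  have h5 : f * (κ - 1) ≤ (C - 1) * g := by
    calc f * (κ - 1) ≤ t * g * (κ - 1) := Nat.mul_le_mul_right _ hfg
      _ = t * (κ - 1) * g := by ring
      _ ≤ (C - 1) * g := Nat.mul_le_mul_right _ h3
  omega

/-- B3 -/
theorem ar3 {p K f κ : ℕ} (h : 4 * (p - 1) < κ ^ 2) (hK : f + κ ≤ K + 1) (hf : 1 ≤ f) (hκ : 1 ≤ κ) : GoodN 1 p K f κ := by
  intro t g n _ ht1 hfg hn
  have h1 := one_add_le (t := t) hκ
  have hg : 1 ≤ g := by
    rcases Nat.eq_zero_or_pos g with rfl | h0
    · simp at hfg; omega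
    · exact h0
  have h3 : κ - 1 ≤ t * (κ - 1) := Nat.le_mul_of_pos_left _ ht1
  have h2 : κ ≤ n := by omega
  exact lt_of_lt_of_le h (Nat.pow_le_pow_left h2 2)

/-- B4 (cyclic Sylow subgroups of `S`, `t ≥ 2`) -/
theorem ar4 {p K f κ e x : ℕ} (hp : 2 ≤ p) (h : p - 1 ≤ e * x) (hK : e + x ≤ K) (hf : 2 * f ≤ e) (hκ : x + 2 ≤ κ) :
    GoodN 2 p K f κ := by
  intro t g n ht2 ht1 hfg hn
  have h1 := choose_mono' (κ := κ) (by omega) ht2
  have h2 := two_mul_choose_two κ (by omega)
  set C := (κ + t - 1).choose t with hC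
  have he : 1 ≤ e := by
    rcases Nat.eq_zero_or_pos e with rfl | h0
    · simp at h; omega
    · exact h0
  have h3 : κ * (κ + 1) ≤ 2 * C := by omega
  obtain ⟨y, rfl⟩ := Nat.exists_eq_add_of_le hκ
  -- `2 n ≥ 2K + κ² + κ - 2 f - 2 κ ≥ e + 2x + (x+1)(x+2)`
  have h4 : e + 2 * x + (x + 1) * (x + 2) ≤ 2 * n := by nlinarith
  have h5 : 8 * (e * x) + 2 * e < (2 * n) ^ 2 + 1 := by
    have h6 := Nat.pow_le_pow_left h4 2
    have h7 : 4 * (e * (2 * x + (x + 1) * (x + 2))) ≤ (e + (2 * x + (x + 1) * (x + 2))) ^ 2 := by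
      have := four_mul_le_sq_add e (2 * x + (x + 1) * (x + 2))
      nlinarith
    nlinarith
  have h8 : 16 * (e * x) < (2 * n) ^ 2 := by
    have h6 := Nat.pow_le_pow_left h4 2
    have h7 := four_mul_le_sq_add e (2 * x + (x + 1) * (x + 2))
    nlinarith [Nat.zero_le (e * x * x)]
  have h9 : 4 * (e * x) < n ^ 2 := by nlinarith
  omega

/-- B6: three invariant characters -/
theorem ar6 {p K f κ k : ℕ} (h11 : 11 ≤ p) (h : p + 3 ≤ 2 * k) (hk : k ≤ f * (κ - 3) + 3) (hK : 3 * f + κ ≤ K + 3)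
    (hκ : 3 ≤ κ) : GoodN 1 p K f κ := by
  obtain ⟨u, rfl⟩ := Nat.exists_eq_add_of_le hκ
  rw [Nat.add_sub_cancel_left] at hk
  have hfu : 4 ≤ f * u := by omega
  have hf : 1 ≤ f := by
    rcases Nat.eq_zero_or_pos f with rfl | h0
    · simp at hfu
    · exact h0
  have hp4 : 4 * (p - 1) ≤ 8 * (f * u) + 8 := by omega
  intro t g n _ ht1 hfg hn
  rcases Nat.lt_or_ge t 2 with ht | ht
  · obtain rfl : t = 1 := by omega
    rw [show 3 + u + 1 - 1 = 3 + u by omega, Nat.choose_one_right] at hn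
    have h1 : 3 * f + u ≤ n := by omega
    have h2 := Nat.pow_le_pow_left h1 2
    have h3 := four_mul_le_sq_add (3 * f) u
    nlinarith
  · have h1 := choose_mono' (κ := 3 + u) (by omega) ht
    have h2 := two_mul_choose_two (3 + u) (by omega)
    set C := (3 + u + t - 1).choose t with hC
    have h3 : 4 * f + (u * u + 7 * u + 6) ≤ 2 * n := by nlinarith
    have h4 := Nat.pow_le_pow_left h3 2
    have h5 := four_mul_le_sq_add (4 * f) (u * u + 7 * u + 6)
    nlinarith [Nat.zero_le (f * u * u)]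

/-- B7: the general numerical criterion: `t = 1`, `t = 2`, `t ≥ 3` -/
theorem ar7 {p K f κ : ℕ} (hf : 1 ≤ f) (hκ : 1 ≤ κ) (hK : f + κ ≤ K + 1) (h1 : 4 * (p - 1) < K ^ 2)
    (h2 : 16 * (p - 1) < (2 * K + κ * (κ - 1) - f) ^ 2)
    (h3 : 4 * (p - 1) < (K + 1 + (κ + 2).choose 3 - f - κ) ^ 2) : GoodN 1 p K f κ := by
  intro t g n _ ht1 hfg hn
  rcases Nat.lt_or_ge t 2 with ht | ht
  · obtain rfl : t = 1 := by omega
    rw [Nat.add_sub_cancel, Nat.choose_one_right] at hn
    exact lt_of_lt_of_le h1 (Nat.pow_le_pow_left (by omega) 2)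
  rcases Nat.lt_or_ge t 3 with ht' | ht'
  · obtain rfl : t = 2 := by omega
    have h4 := two_mul_choose_two κ hκ
    obtain ⟨k, rfl⟩ := Nat.exists_eq_add_of_le hκ
    rw [Nat.add_sub_cancel_left] at h2
    have h5 : 2 * K + (1 + k) * k - f ≤ 2 * n := by
      have h6 : (1 + k) * (1 + k + 1) = (1 + k) * k + 2 * (1 + k) := by ring
      omega
    have h6 := Nat.pow_le_pow_left h5 2
    have h7 : (2 * n) ^ 2 = 4 * n ^ 2 := by ring
    omega
  · have h4 := choose_mono' hκ ht'
    rw [show κ + 3 - 1 = κ + 2 by omega] at h4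
    have hg : 1 ≤ g := by
      rcases Nat.eq_zero_or_pos g with rfl | h0
      · simp at hfg; omega
      · exact h0
    exact lt_of_lt_of_le h3 (Nat.pow_le_pow_left (by omega) 2)

end arith

open Cfsg.Agent.Characters.Core
open Cfsg.Agent.Blocks.Local Cfsg.Agent.Blocks.Basic

variable {p : ℕ} [hp : Fact p.Prime] {M : Ideal AlgInt}

omit hp in
theorem ip_irr {G : Type u} [Group G] [Finite G] {χ ψ : G → ℂ} (hχ : IsIrrCharacter G χ) (hψ : IsIrrCharacter G ψ)
    (h : ∑ᶠ g : G, χ g * conj (ψ g) ≠ 0) : χ = ψ := by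
  classical
  let : Fintype G := Fintype.ofFinite G
  by_contra hne
  apply h
  have h1 : classInner χ ψ = 0 := classInner_irr_ne hχ hψ hne
  unfold classInner at h1
  rw [mul_eq_zero] at h1
  rcases h1 with h1 | h1
  · exact absurd h1 (inv_ne_zero (Nat.cast_ne_zero.2 Nat.card_pos.ne'))
  · rw [finsum_eq_sum_of_fintype]
    exact h1

/-- **The data of an almost simple group.** -/
theorem data (hM : IsPModular p M) {A : Type u} [Group A] [Finite A] (T : Subgroup A) [T.Normal] (hcop : ¬ p ∣ T.index)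
    (hab : ∀ a b : A, a * b * a⁻¹ * b⁻¹ ∈ hull p T) {R : ℕ} (χ : Fin R → IrrCharacter A) (h0 : ∀ i, Mem0 p M (χ i))
    (hirr : ∀ i, IsIrrCharacter T (fun x : T => (χ i : A → ℂ) x))
    (hne : ∀ i j, (∀ x ∈ T, (χ i : A → ℂ) x = (χ j : A → ℂ) x) → i = j) :
    (hull p T).index * R + kap0 p M T ≤ x0 p M A + R ∧
      x0 p M ↥T ≤ (hull p T).index * (kap0 p M T - R) + R ∧ R ≤ kap0 p M T := by
  classical
  have hMp : M.IsPrime := isPrime_of_isPModular hM
  have hfin : Finite (IrrCharacter A) := finite_irr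
  have hfinT : Finite (IrrCharacter ↥T) := finite_irr
  have hfin3 : Finite (Quotient (orbSetoid0 p M T)) := finite_quot0 T
  have hfT : Fintype ↥T := Fintype.ofFinite _
  have hfA : Fintype A := Fintype.ofFinite _
  let θ : Fin R → {χ : IrrCharacter ↥T // Mem0 p M χ} := fun i =>
    ⟨⟨fun x : T => (χ i : A → ℂ) x, hirr i⟩, by
      obtain ⟨h1, h2, n, hn1, hn2, hn3⟩ := h0 i
      refine ⟨?_, h2, n, hn1, hn2, fun g => hn3 g⟩
      refine H611.CoverPrincipal.mem_principalBlock_of_over p hM T (χ i) ⟨fun x : T => (χ i : A → ℂ) x, hirr i⟩ ?_ h1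
      show classInner (fun x : T => (χ i : A → ℂ) x) (fun x : T => (χ i : A → ℂ) x) ≠ 0
      rw [classInner_irr_self (hirr i)]
      exact one_ne_zero⟩
  have hθinj : Function.Injective θ := by
    intro i j h
    refine hne i j fun x hx => ?_
    have h1 := congrArg (fun t : {χ : IrrCharacter ↥T // Mem0 p M χ} => (t.1 : T → ℂ) ⟨x, hx⟩) h
    exact h1
  have hsing : ∀ i, ∀ y, (orbSetoid0 p M T) (θ i) y → y = θ i := by
    rintro i y ⟨a, ha⟩
    apply Subtype.ext
    apply Subtype.ext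
    funext s
    rw [ha s]
    show (χ i : A → ℂ) ((MulAut.conjNormal a s : T) : A) = (χ i : A → ℂ) s
    rw [MulAut.conjNormal_apply]
    exact Cfsg.Agent.Blocks.Basic.irr_conj (χ i).2 _ _
  let q : Fin R → Quotient (orbSetoid0 p M T) := fun i => Quotient.mk _ (θ i)
  have hqinj : Function.Injective q := by
    intro i j h
    have h1 : (orbSetoid0 p M T) (θ i) (θ j) := Quotient.exact h
    exact (hθinj (hsing i _ h1)).symm
  let Q₀ : Finset (Quotient (orbSetoid0 p M T)) := Finset.univ.image q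
  have hQ : Q₀.card = R := by
    rw [Finset.card_image_of_injective _ hqinj, Finset.card_univ, Fintype.card_fin]
  let Pr : {χ : IrrCharacter A // Mem0 p M χ} → Prop := fun x =>
    ∀ θ' : {χ : IrrCharacter ↥T // Mem0 p M χ}, Over T x.1 θ'.1 → Quotient.mk (orbSetoid0 p M T) θ' ∈ Q₀
  let W : Set (IrrCharacter A) := {x | ∃ h : Mem0 p M x, ¬ Pr ⟨x, h⟩}
  have hc := count0 T hM hcop (ι := {x : {χ : IrrCharacter A // Mem0 p M χ} // Pr x}) (fun x => x.1)
    (fun x y h => Subtype.ext h) Q₀ (fun i θ' ho => i.2 θ' ho)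
  rw [hQ] at hc
  have hW : W.ncard + Nat.card {x : {χ : IrrCharacter A // Mem0 p M χ} // Pr x} = x0 p M A := by
    have e1 : W.ncard = Nat.card {x : {χ : IrrCharacter A // Mem0 p M χ} // ¬ Pr x} := by
      rw [← Nat.card_coe_set_eq]
      exact Nat.card_congr
        { toFun := fun x => ⟨⟨x.1, x.2.choose⟩, x.2.choose_spec⟩
          invFun := fun x => ⟨x.1.1, x.1.2, x.2⟩
          left_inv := fun x => rfl
          right_inv := fun x => rfl }
    rw [e1, add_comm]
    unfold x0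
    rw [← Nat.card_sum]
    exact Nat.card_congr (Equiv.sumCompl Pr)
  have hg := gallagher_le T hM hcop hab χ h0 hirr hne W (fun ψ h => h.1) (by
    rintro i l hl ⟨h1, h2⟩
    apply h2
    intro θ' ho
    rw [Finset.mem_image]
    refine ⟨i, Finset.mem_univ i, ?_⟩
    have h3 : θ i = θ' := by
      apply Subtype.ext
      apply Subtype.ext
      refine ip_irr (θ i).1.2 θ'.1.2 ?_
      have h4 : (fun n : T => (twist l (χ i) : A → ℂ) n * conj ((θ'.1 : T → ℂ) n)) =
          fun n : T => ((θ i).1 : T → ℂ) n * conj ((θ'.1 : T → ℂ) n) := by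
        funext n
        rw [twist_apply, hl n (le_sup_left (a := T) n.2), Units.val_one, one_mul]
      unfold Over at ho
      rw [h4] at ho
      exact ho
    rw [← h3])
  rw [Nat.card_fin] at hg
  refine ⟨by omega, ?_, ?_⟩
  · have h := H426.KB.card_le_of_classes (orbSetoid0 p M T) (hull p T).index (card_orbit_le0 T hM hcop) Q₀ (by
      intro x hx
      obtain ⟨i, -, rfl⟩ := Finset.mem_image.1 hx
      exact ⟨θ i, rfl, hsing i⟩)
    rw [hQ] at h
    exact h
  · rw [← hQ]
    let : Fintype (Quotient (orbSetoid0 p M T)) := Fintype.ofFinite _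
    unfold kap0
    rw [Nat.card_eq_fintype_card]
    exact Finset.card_le_univ _

/-- **The general criterion**, in terms of `GoodN`: `f = |A : hull|`, `κ` the number of orbits, `K = x0(A)`. -/
theorem row0_of_good (hM : IsPModular p M) {S : Type u} [Group S] [Finite S] (hab : AbOut p S)
    {R x : ℕ} (hext : ExtY p M S R) (hk : x ≤ x0 p M S)
    (h : ∀ f κ K : ℕ, 1 ≤ f → R ≤ κ → 1 ≤ κ → f * R + κ ≤ K + R → f + κ ≤ K + 1 → x ≤ f * (κ - R) + R →
      x ≤ f * (κ - 1) + 1 → H508.XR.GoodN 1 p K f κ) : Row0 p M S := by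
  intro A _ _ T _ ⟨e⟩ hcen hcop t n ht ⟨g, hg1, hg2⟩
  have hcomm := comm_mem_hull T e hab hcen hcop
  have hker := ker_eq_index T hM hcop hcomm
  let f : S →* A := T.subtype.comp e.toMonoidHom
  have hf : Function.Injective f := T.subtype_injective.comp e.injective
  have hr : f.range = T := by
    rw [MonoidHom.range_comp, MonoidHom.range_eq_top.2 e.surjective, ← MonoidHom.range_eq_map, Subgroup.range_subtype]
  obtain ⟨ψ, h1, h2⟩ := hext A f hf (by rw [hr]; infer_instance) (by rw [hr]; exact hcen) (by rw [hr]; exact hcop)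
  have h3 : ∀ i, IsIrrCharacter T (fun x : T => (ψ i : A → ℂ) x) := by
    intro i
    have h4 := isIrr_comp e.symm.toMonoidHom e.symm.surjective (h1 i).2
    have h5 : (fun x : T => (ψ i : A → ℂ) x) = fun x : T => (ψ i : A → ℂ) (f (e.symm.toMonoidHom x)) := by
      funext x
      show (ψ i : A → ℂ) x = (ψ i : A → ℂ) ((e (e.symm x) : T) : A)
      rw [e.apply_symm_apply]
    rw [h5]
    exact h4
  obtain ⟨h4, h5, h6⟩ := data hM T hcop hcomm ψ (fun i => (h1 i).1) h3 (by
    intro i j hij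
    exact h2 i j fun s => hij _ (e s).2)
  have h7 : x0 p M S = x0 p M ↥T := x0_congr e
  have h8 := x0_le0 T hM hcop
  have h9 := ker_add_kap_le0 T hM hcop
  have h10 : 1 ≤ kap0 p M T := by
    have h11 : Finite (Quotient (orbSetoid0 p M T)) := finite_quot0 T
    have h12 : M.IsPrime := isPrime_of_isPModular hM
    have : Nonempty (Quotient (orbSetoid0 p M T)) := ⟨Quotient.mk _ ⟨⟨fun _ => 1, isIrrCharacter_one⟩, mem0_one ↥T⟩⟩
    exact Nat.card_pos
  rw [hker] at hg1 hg2 h9
  have h11 := h (hull p T).index (kap0 p M T) (x0 p M A) (Nat.pos_of_ne_zero index_ne_zero_of_finite) h6 h10 h4 h9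
    (by omega) (by omega)
  exact h11 t g n ht ht hg1 hg2

/-- **The general numerical criterion**: for all `f ≥ 1`, `u` with `x ≤ f u + R`. -/
theorem row0_of_num (hM : IsPModular p M) {S : Type u} [Group S] [Finite S] (hab : AbOut p S)
    {R x : ℕ} (hR : 1 ≤ R) (hext : ExtY p M S R) (hk : x ≤ x0 p M S)
    (h1 : ∀ f u : ℕ, 1 ≤ f → x ≤ f * u + R → 4 * (p - 1) < (f * R + u) ^ 2)
    (h2 : ∀ f u C : ℕ, 1 ≤ f → x ≤ f * u + R → (u + R) * (u + R + 1) ≤ 2 * C →
      4 * (p - 1) < (f * (R - 1) + C + 1 - R) ^ 2) : Row0 p M S := by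
  refine row0_of_good hM hab hext hk fun f κ K hf hRκ hκ hK hK' hx hx' => ?_
  obtain ⟨u, rfl⟩ := Nat.exists_eq_add_of_le hRκ
  rw [Nat.add_sub_cancel_left] at hx
  obtain ⟨r, rfl⟩ : ∃ r, R = r + 1 := ⟨R - 1, by omega⟩
  intro t g n _ ht1 hfg hn
  have hg : 1 ≤ g := by
    rcases Nat.eq_zero_or_pos g with rfl | h0
    · simp at hfg; omega
    · exact h0
  rcases Nat.lt_or_ge t 2 with ht | ht
  · obtain rfl : t = 1 := by omega
    rw [Nat.add_sub_cancel, Nat.choose_one_right] at hn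
    refine (h1 f u hf hx).trans_le (Nat.pow_le_pow_left ?_ 2)
    omega
  · have h3 := choose_mono' (κ := r + 1 + u) (by omega) ht
    have h4 := two_mul_choose_two (r + 1 + u) (by omega)
    refine (h2 f u ((r + 1 + u + t - 1).choose t) hf hx ?_).trans_le (Nat.pow_le_pow_left ?_ 2)
    · have h5 : (u + (r + 1)) * (u + (r + 1) + 1) = (r + 1 + u) * (r + 1 + u + 1) := by ring
      rw [h5, ← h4]
      exact Nat.mul_le_mul_left 2 h3
    · rw [Nat.add_sub_cancel]
      have h5 : f * (r + 1) = f * r + f := by ring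
      rw [h5] at hK
      omega

section crit

variable {S : Type u} [Group S] [Finite S]

/-- C7 -/
theorem row_of_ab (hM : IsPModular p M) (hab : AbOut p S) (hk : p + 1 ≤ x0 p M S) : Row0 p M S := by
  refine row0_of_good (R := 0) hM hab (fun A _ _ f _ _ _ _ => ⟨fun i => i.elim0, fun i => i.elim0, fun i => i.elim0⟩) hk
    fun f κ K hf _ hκ _ hK _ hx => ?_
  exact ar1 hp.out.one_lt.le (by omega) hK hκ

/-- C13 (= C8 with `ExtY`) -/
theorem row_of_ext3 (h11 : 11 ≤ p) (hM : IsPModular p M) (hab : AbOut p S) (hext : ExtY p M S 3)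
    (hk : p + 3 ≤ 2 * x0 p M S) : Row0 p M S := by
  refine row0_of_good hM hab hext le_rfl fun f κ K hf hRκ hκ hK hK' hx _ => ?_
  exact ar6 h11 hk hx (by omega) hRκ

/-- C8 -/
theorem row_of_ext (h11 : 11 ≤ p) (hM : IsPModular p M) (hab : AbOut p S) (hext : ExtX p M S 3)
    (hk : p + 3 ≤ 2 * x0 p M S) : Row0 p M S := row_of_ext3 h11 hM hab hext.extY hk

/-- C11 -/
theorem row_of_ext2 (hM : IsPModular p M) (hab : AbOut p S) (hext : ExtY p M S 2)
    (hk : p + 5 ≤ 2 * x0 p M S) : Row0 p M S := by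
  refine row0_of_num hM hab (by norm_num) hext le_rfl (fun f u hf hx => ?_) fun f u C hf hx hC => ?_
  · have h1 := four_mul_le_sq_add (2 * f) u
    have h2 : 2 * f * u = 2 * (f * u) := by ring
    rw [show f * 2 + u = 2 * f + u by ring]
    omega
  · have h1 := four_mul_le_sq_add (2 * f) (u * u + 5 * u + 4)
    have h3 : 2 * f + (u * u + 5 * u + 4) ≤ 2 * (f * (2 - 1) + C + 1 - 2) := by
      have : (u + 2) * (u + 2 + 1) = u * u + 5 * u + 6 := by ring
      omega
    have h4 := Nat.pow_le_pow_left h3 2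
    set n := f * (2 - 1) + C + 1 - 2
    have h5 : (2 * n) ^ 2 = 4 * n ^ 2 := by ring
    have h6 : 4 * (2 * f * (u * u + 5 * u + 4)) = 8 * (f * (u * u)) + 40 * (f * u) + 32 * f := by ring
    omega

/-- C12: `p ≤ 13` -/
theorem row_of_ext2_small (h13 : p ≤ 13) (hM : IsPModular p M) (hab : AbOut p S) (hext : ExtY p M S 2)
    (hk : 7 ≤ x0 p M S) : Row0 p M S := by
  have key : ∀ n : ℕ, 7 ≤ n → 4 * (p - 1) < n ^ 2 := fun n hn => by
    have := Nat.pow_le_pow_left hn 2
    omega
  refine row0_of_num hM hab (by norm_num) hext hk (fun f u hf hx => key _ ?_) fun f u C hf hx hC => key _ ?_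
  · rcases Nat.lt_or_ge f 4 with h | h
    · interval_cases f <;> omega
    · omega
  · rcases Nat.lt_or_ge f 4 with h | h
    · interval_cases f
      · have : 5 ≤ u := by omega
        have : 56 ≤ (u + 2) * (u + 2 + 1) := by nlinarith
        omega
      · have : 3 ≤ u := by omega
        have : 30 ≤ (u + 2) * (u + 2 + 1) := by nlinarith
        omega
      · have : 2 ≤ u := by omega
        have : 20 ≤ (u + 2) * (u + 2 + 1) := by nlinarith
        omega
    · have : 1 ≤ u := by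
        rcases Nat.eq_zero_or_pos u with rfl | h0
        · omega
        · exact h0
      have : 12 ≤ (u + 2) * (u + 2 + 1) := by nlinarith
      omega

/-- C14: small primes, three extendible characters -/
theorem row_of_ext3_small (hM : IsPModular p M) (hab : AbOut p S) (hext : ExtY p M S 3)
    (hk : (p ≤ 19 ∧ 9 ≤ x0 p M S) ∨ (p ≤ 31 ∧ 12 ≤ x0 p M S)) : Row0 p M S := by
  rcases hk with ⟨h19, hk⟩ | ⟨h31, hk⟩
  · have key : ∀ n : ℕ, 9 ≤ n → 4 * (p - 1) < n ^ 2 := fun n hn => by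
      have := Nat.pow_le_pow_left hn 2
      omega
    refine row0_of_num hM hab (by norm_num) hext hk (fun f u hf hx => key _ ?_) fun f u C hf hx hC => key _ ?_
    · rcases Nat.lt_or_ge f 3 with h | h
      · interval_cases f <;> omega
      · omega
    · have hu : 1 ≤ u := by
        rcases Nat.eq_zero_or_pos u with rfl | h0
        · omega
        · exact h0
      have : 20 ≤ (u + 3) * (u + 3 + 1) := by nlinarith
      rcases Nat.lt_or_ge f 2 with h | h
      · obtain rfl : f = 1 := by omega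
        have : 6 ≤ u := by omega
        have : 90 ≤ (u + 3) * (u + 3 + 1) := by nlinarith
        omega
      · omega
  · have key : ∀ n : ℕ, 11 ≤ n → 4 * (p - 1) < n ^ 2 := fun n hn => by
      have := Nat.pow_le_pow_left hn 2
      omega
    refine row0_of_num hM hab (by norm_num) hext hk (fun f u hf hx => key _ ?_) fun f u C hf hx hC => key _ ?_
    · rcases Nat.lt_or_ge f 4 with h | h
      · interval_cases f <;> omega
      · omega
    · have hu : 1 ≤ u := by
        rcases Nat.eq_zero_or_pos u with rfl | h0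
        · omega
        · exact h0
      have : 20 ≤ (u + 3) * (u + 3 + 1) := by nlinarith
      rcases Nat.lt_or_ge f 2 with h | h
      · obtain rfl : f = 1 := by omega
        have : 9 ≤ u := by omega
        have : 156 ≤ (u + 3) * (u + 3 + 1) := by nlinarith
        omega
      · omega

/-- C15: `p ≤ 37`, four extendible characters -/
theorem row_of_ext4_small (h37 : p ≤ 37) (hM : IsPModular p M) (hab : AbOut p S) (hext : ExtY p M S 4)
    (hk : 13 ≤ x0 p M S) : Row0 p M S := by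
  have key : ∀ n : ℕ, 13 ≤ n → 4 * (p - 1) < n ^ 2 := fun n hn => by
    have := Nat.pow_le_pow_left hn 2
    omega
  refine row0_of_num hM hab (by norm_num) hext hk (fun f u hf hx => key _ ?_) fun f u C hf hx hC => key _ ?_
  · rcases Nat.lt_or_ge f 4 with h | h
    · interval_cases f <;> omega
    · omega
  · have hu : 1 ≤ u := by
      rcases Nat.eq_zero_or_pos u with rfl | h0
      · omega
      · exact h0
    have : 30 ≤ (u + 4) * (u + 4 + 1) := by nlinarith
    omega

/-- C16: `p ≤ 43` -/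
theorem row_of_ext2_43 (h43 : p ≤ 43) (hM : IsPModular p M) (hab : AbOut p S) (hext : ExtY p M S 2)
    (hk : 21 ≤ x0 p M S) : Row0 p M S := by
  have key : ∀ n : ℕ, 13 ≤ n → 4 * (p - 1) < n ^ 2 := fun n hn => by
    have := Nat.pow_le_pow_left hn 2
    omega
  refine row0_of_num hM hab (by norm_num) hext hk (fun f u hf hx => key _ ?_) fun f u C hf hx hC => key _ ?_
  · rcases Nat.lt_or_ge f 7 with h | h
    · interval_cases f <;> omega
    · omega
  · rcases Nat.lt_or_ge u 4 with h | h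
    · interval_cases u <;> omega
    · have : 42 ≤ (u + 2) * (u + 2 + 1) := by nlinarith
      omega

end crit

end Cfsg.Agent.H364.XR
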